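import Groth.Prelude.Def_DiffOp
import Mathlib.RingTheory.Kaehler.Basic
import Mathlib.Algebra.BigOperators.Fin
import Mathlib.RingTheory.Adjoin.Basic

/-! Basic algebra of differential operators (`Diff16.IsDiffOpLE`). -/

namespace Groth.Agent.DiffOp

open scoped TensorProduct
open Diff16

universe u v

variable {A B : Type u} [CommRing A] [CommRing B] [Algebra A B]
variable {M N P : Type v} [AddCommGroup M] [Module A M] [Module B M] [IsScalarTower A B M]
  [AddCommGroup N] [Module A N] [Module B N] [IsScalarTower A B N]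
  [AddCommGroup P] [Module A P] [Module B P] [IsScalarTower A B P]

@[simp] theorem commutator_apply (D : M →ₗ[A] N) (b : B) (m : M) :
    commutator A B M N D b m = D (b • m) - b • D m := rfl

theorem comm_zero (b : B) : commutator A B M N (0 : M →ₗ[A] N) b = 0 := by
  ext m; simp

theorem le_zero_iff (D : M →ₗ[A] N) :
    IsDiffOpLE A B M N 0 D ↔ ∀ b, commutator A B M N D b = 0 := by
  simp only [IsDiffOpLE, LinearMap.ext_iff, commutator_apply, LinearMap.zero_apply, sub_eq_zero]

theorem diffOp_zero (n : ℕ) : IsDiffOpLE A B M N n (0 : M →ₗ[A] N) := by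
  induction n with
  | zero => simp [IsDiffOpLE]
  | succ n ih => intro b; rw [comm_zero]; exact ih

theorem mono_succ : ∀ {n : ℕ} {D : M →ₗ[A] N},
    IsDiffOpLE A B M N n D → IsDiffOpLE A B M N (n + 1) D
  | 0, D, h => fun b => by rw [(le_zero_iff D).1 h b]; exact diffOp_zero 0
  | _ + 1, _, h => fun b => mono_succ (h b)

theorem mono {n m : ℕ} (hnm : n ≤ m) {D : M →ₗ[A] N} (h : IsDiffOpLE A B M N n D) :
    IsDiffOpLE A B M N m D := by
  induction hnm with
  | refl => exact h
  | step _ ih => exact mono_succ ih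

theorem comm_add (D E : M →ₗ[A] N) (b : B) :
    commutator A B M N (D + E) b = commutator A B M N D b + commutator A B M N E b := by
  ext m; simp; abel

theorem comm_smul (c : B) (D : M →ₗ[A] N) (b : B) :
    commutator A B M N (c • D) b = c • commutator A B M N D b := by
  ext m; simp [smul_sub, smul_comm c b]

theorem comm_comp_smul (c : B) (D : M →ₗ[A] N) (b : B) :
    commutator A B M N (D ∘ₗ (LinearMap.lsmul B M c).restrictScalars A) b
      = commutator A B M N D b ∘ₗ (LinearMap.lsmul B M c).restrictScalars A := by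
  ext m; simp [smul_comm c b]

theorem diffOp_add : ∀ {n : ℕ} {D E : M →ₗ[A] N},
    IsDiffOpLE A B M N n D → IsDiffOpLE A B M N n E → IsDiffOpLE A B M N n (D + E)
  | 0, _, _, hD, hE => fun b m => by simp [hD b m, hE b m]
  | n + 1, D, E, hD, hE => fun b => by rw [comm_add]; exact diffOp_add (hD b) (hE b)

theorem diffOp_smul : ∀ {n : ℕ} (c : B) {D : M →ₗ[A] N},
    IsDiffOpLE A B M N n D → IsDiffOpLE A B M N n (c • D)
  | 0, c, _, hD => fun b m => by simp [hD b m, smul_comm c b]
  | n + 1, c, D, hD => fun b => by rw [comm_smul]; exact diffOp_smul c (hD b)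

theorem diffOp_comp_smul : ∀ {n : ℕ} (c : B) {D : M →ₗ[A] N},
    IsDiffOpLE A B M N n D →
      IsDiffOpLE A B M N n (D ∘ₗ (LinearMap.lsmul B M c).restrictScalars A)
  | 0, c, D, hD => fun b m => by
      show D (c • b • m) = b • D (c • m)
      rw [smul_comm c b m, hD b (c • m)]
  | n + 1, c, D, hD => fun b => by rw [comm_comp_smul]; exact diffOp_comp_smul c (hD b)

theorem diffOp_neg {n : ℕ} {D : M →ₗ[A] N} (h : IsDiffOpLE A B M N n D) :
    IsDiffOpLE A B M N n (-D) := by
  have := diffOp_smul (-1 : B) h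
  rwa [show ((-1 : B) • D) = -D from by ext m; simp] at this

theorem diffOp_sub {n : ℕ} {D E : M →ₗ[A] N} (h : IsDiffOpLE A B M N n D)
    (h' : IsDiffOpLE A B M N n E) : IsDiffOpLE A B M N n (D - E) := by
  rw [sub_eq_add_neg]; exact diffOp_add h (diffOp_neg h')

/-- Commutator of a composite. -/
theorem comm_comp (D : M →ₗ[A] N) (D' : N →ₗ[A] P) (b : B) :
    commutator A B M P (D' ∘ₗ D) b
      = D' ∘ₗ commutator A B M N D b + commutator A B N P D' b ∘ₗ D := by
  ext m; simp

theorem diffOp_comp : ∀ {n n' : ℕ} {D : M →ₗ[A] N} {D' : N →ₗ[A] P},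
    IsDiffOpLE A B M N n D → IsDiffOpLE A B N P n' D' →
      IsDiffOpLE A B M P (n + n') (D' ∘ₗ D)
  | 0, 0, D, D', h, h' => fun b m => by simp [h b m, h' b (D m)]
  | 0, n' + 1, D, D', h, h' => fun b => by
      rw [comm_comp, (le_zero_iff D).1 h b, LinearMap.comp_zero, zero_add]
      exact diffOp_comp h (h' b)
  | n + 1, 0, D, D', h, h' => fun b => by
      rw [comm_comp, (le_zero_iff D').1 h' b, LinearMap.zero_comp, add_zero]
      exact diffOp_comp (h b) h'
  | n + 1, n' + 1, D, D', h, h' => fun b => by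
      rw [comm_comp]
      refine diffOp_add ?_ (diffOp_comp h (h' b))
      exact mono (le_of_eq (by simp only [Nat.add_eq]; omega)) (diffOp_comp (h b) h')

/-- An operator whose commutators with algebra generators have order `≤ n` has order `≤ n + 1`. -/
theorem diffOp_of_adjoin {s : Set B} (hs : Algebra.adjoin A s = ⊤) {n : ℕ} {D : M →ₗ[A] N}
    (hD : ∀ g ∈ s, IsDiffOpLE A B M N n (commutator A B M N D g)) :
    IsDiffOpLE A B M N (n + 1) D := by
  intro b
  have hb : b ∈ Algebra.adjoin A s := hs ▸ Algebra.mem_top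
  induction hb using Algebra.adjoin_induction with
  | mem x hx => exact hD x hx
  | algebraMap r =>
    rw [show commutator A B M N D (algebraMap A B r) = 0 by
      ext m; simp [algebraMap_smul, map_smul]]
    exact diffOp_zero n
  | add x y _ _ hx hy =>
    rw [show commutator A B M N D (x + y) = commutator A B M N D x + commutator A B M N D y by
      ext m; simp [add_smul]; abel]
    exact diffOp_add hx hy
  | mul x y _ _ hx hy =>
    rw [show commutator A B M N D (x * y) = commutator A B M N D x ∘ₗ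
        (LinearMap.lsmul B M y).restrictScalars A + x • commutator A B M N D y by
      ext m; simp [mul_smul, smul_sub]]
    exact diffOp_add (diffOp_comp_smul y hx) (diffOp_smul x hy)

/-! ### The annihilating ideal in `B ⊗ B` -/

variable (A B) in
/-- The element `1 ⊗ b - b ⊗ 1`. -/
noncomputable def delta (b : B) : B ⊗[A] B := (1 : B) ⊗ₜ[A] b - b ⊗ₜ[A] (1 : B)

/-- The map `p ⊗ q ↦ p • D (q • t)`. -/
noncomputable def phi (D : M →ₗ[A] N) (t : M) : B ⊗[A] B →ₗ[A] N :=
  TensorProduct.lift
    { toFun := fun p => p • (D ∘ₗ (LinearMap.toSpanSingleton B M t).restrictScalars A)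
      map_add' := fun p p' => add_smul p p' _
      map_smul' := fun a p => smul_assoc a p _ }

@[simp] theorem phi_tmul (D : M →ₗ[A] N) (t : M) (p q : B) :
    phi D t (p ⊗ₜ[A] q) = p • D (q • t) := rfl

theorem phi_mul_tmul (D : M →ₗ[A] N) (t : M) (p q : B) (x : B ⊗[A] B) :
    phi D t ((p ⊗ₜ[A] q) * x) = p • phi D (q • t) x := by
  induction x using TensorProduct.induction_on with
  | zero => simp
  | tmul a b => simp [mul_smul, smul_comm q b]
  | add x y hx hy => rw [mul_add, map_add, map_add, hx, hy, smul_add]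

/-- The ideal of elements of `B ⊗ B` annihilating an operator. -/
noncomputable def annIdeal (D : M →ₗ[A] N) : Ideal (B ⊗[A] B) where
  carrier := {x | ∀ t, phi D t x = 0}
  add_mem' {x y} hx hy t := by simp [map_add, hx t, hy t]
  zero_mem' t := map_zero _
  smul_mem' c x hx := by
    intro t
    rw [smul_eq_mul]
    induction c using TensorProduct.induction_on with
    | zero => simp
    | tmul p q => rw [phi_mul_tmul, hx, smul_zero]
    | add y z hy hz => rw [add_mul, map_add, hy, hz, add_zero]

theorem mem_annIdeal {D : M →ₗ[A] N} {x : B ⊗[A] B} : x ∈ annIdeal D ↔ ∀ t, phi D t x = 0 :=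
  Iff.rfl

theorem phi_commutator (D : M →ₗ[A] N) (b : B) (t : M) (x : B ⊗[A] B) :
    phi (commutator A B M N D b) t x = phi D t (delta A B b * x) := by
  induction x using TensorProduct.induction_on with
  | zero => simp
  | tmul p q =>
    rw [delta, sub_mul, map_sub, Algebra.TensorProduct.tmul_mul_tmul,
      Algebra.TensorProduct.tmul_mul_tmul]
    simp [smul_sub, mul_smul, smul_comm b p]
  | add x y hx hy => rw [mul_add, map_add, map_add, hx, hy]

theorem mem_annIdeal_commutator {D : M →ₗ[A] N} {b : B} {x : B ⊗[A] B} :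
    x ∈ annIdeal (commutator A B M N D b) ↔ delta A B b * x ∈ annIdeal D := by
  simp only [mem_annIdeal, phi_commutator]

/-- The product characterisation. -/
theorem le_iff_prod : ∀ {n : ℕ} (D : M →ₗ[A] N),
    IsDiffOpLE A B M N n D ↔ ∀ b : Fin (n + 1) → B, ∏ i, delta A B (b i) ∈ annIdeal D
  | 0, D => by
    have e : ∀ f : Fin (0 + 1) → B, ∏ i, delta A B (f i) = delta A B (f 0) := fun f =>
      Fin.prod_univ_one _
    simp only [IsDiffOpLE, mem_annIdeal, e]
    simp only [delta, map_sub, phi_tmul, one_smul, sub_eq_zero]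
    exact ⟨fun h b t => h _ t, fun h b m => h (fun _ => b) m⟩
  | n + 1, D => by
    constructor
    · intro h b
      rw [Fin.prod_univ_succ, ← mem_annIdeal_commutator]
      exact (le_iff_prod _).1 (h (b 0)) (fun i => b i.succ)
    · intro h c
      refine (le_iff_prod _).2 fun b => ?_
      rw [mem_annIdeal_commutator]
      simpa [Fin.prod_univ_succ] using h (Fin.cons c b)

theorem span_delta : Ideal.span (Set.range (delta A B)) = KaehlerDifferential.ideal A B :=
  KaehlerDifferential.span_range_eq_ideal A B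

/-- The ideal-power characterisation. -/
theorem le_iff_pow : ∀ {n : ℕ} (D : M →ₗ[A] N),
    IsDiffOpLE A B M N n D ↔ KaehlerDifferential.ideal A B ^ (n + 1) ≤ annIdeal D
  | 0, D => by
    rw [le_iff_prod, zero_add, pow_one, ← span_delta, Ideal.span_le]
    constructor
    · rintro h _ ⟨b, rfl⟩; simpa using h (fun _ => b)
    · intro h b; simpa using h ⟨b 0, rfl⟩
  | n + 1, D => by
    constructor
    · intro h
      rw [pow_succ', ← span_delta, Ideal.mul_le]
      intro r hr s hs
      rw [span_delta] at hs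
      induction hr using Submodule.span_induction with
      | mem x hx =>
        obtain ⟨b, rfl⟩ := hx
        exact mem_annIdeal_commutator.1 ((le_iff_pow _).1 (h b) hs)
      | zero => simp
      | add x y _ _ hx hy => rw [add_mul]; exact (annIdeal D).add_mem hx hy
      | smul a x _ hx => rw [smul_eq_mul, mul_assoc]; exact (annIdeal D).mul_mem_left _ hx
    · intro h b
      refine (le_iff_pow _).2 fun x hx => mem_annIdeal_commutator.2 (h ?_)
      rw [pow_succ' _ (n + 1)]
      exact Ideal.mul_mem_mul (span_delta (A := A) (B := B) ▸ Ideal.subset_span ⟨b, rfl⟩) hx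

/-- `phi` on the product of the `delta`s is the alternating sum. -/
theorem phi_prod_delta {ι : Type*} [Fintype ι] [DecidableEq ι] (D : M →ₗ[A] N) (b : ι → B)
    (t : M) :
    phi D t (∏ i, delta A B (b i))
      = ∑ H : Finset ι, ((-1 : ℤ) ^ H.card) • ((∏ i ∈ H, b i) • D ((∏ i ∈ Hᶜ, b i) • t)) := by
  have e : ∏ i, delta A B (b i) = ∑ H : Finset ι,
      ((-1 : ℤ) ^ H.card) • ((∏ i ∈ H, b i) ⊗ₜ[A] (∏ i ∈ Hᶜ, b i)) := by
    have h1 : ∀ i, delta A B (b i) = -(b i ⊗ₜ[A] (1 : B)) + (1 : B) ⊗ₜ[A] b i := fun i => by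
      rw [delta]; abel
    simp only [h1]
    rw [Fintype.prod_add]
    refine Finset.sum_congr rfl fun H _ => ?_
    rw [Finset.prod_neg]
    have l : ∏ i ∈ H, (b i ⊗ₜ[A] (1 : B)) = (∏ i ∈ H, b i) ⊗ₜ[A] (1 : B) :=
      (map_prod (Algebra.TensorProduct.includeLeft : B →ₐ[A] B ⊗[A] B) b H).symm
    have r : ∏ i ∈ Hᶜ, ((1 : B) ⊗ₜ[A] b i) = (1 : B) ⊗ₜ[A] (∏ i ∈ Hᶜ, b i) :=
      (map_prod (Algebra.TensorProduct.includeRight : B →ₐ[A] B ⊗[A] B) b Hᶜ).symm
    rw [l, r, mul_assoc, Algebra.TensorProduct.tmul_mul_tmul, one_mul, mul_one, zsmul_eq_mul]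
    push_cast
    rfl
  rw [e, map_sum]
  exact Finset.sum_congr rfl fun H _ => by rw [map_zsmul, phi_tmul]

end Groth.Agent.DiffOp
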