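import Groth.Agent.DiffOp.Basic
import Mathlib.RingTheory.Etale.Basic
import Mathlib.RingTheory.Kaehler.JacobiZariski
import Mathlib.RingTheory.Kaehler.Polynomial
import Mathlib.RingTheory.MvPolynomial.Ideal
import Mathlib.LinearAlgebra.TensorProduct.Basis

/-! Differential operators in coordinates with basis differentials. -/

namespace Groth.Agent.DiffOp

open scoped TensorProduct
open Diff16

universe u

variable {A B : Type u} [CommRing A] [CommRing B] [Algebra A B]
variable {n : ℕ} {z : Fin n → B}

theorem linear_of_commute (hz : Submodule.span B (Set.range fun i => KaehlerDifferential.D A B (z i)) = ⊤) :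
    ∀ (k : ℕ) (D : B →ₗ[A] B), IsDiffOpLE A B B B k D →
      (∀ i, commutator A B B B D (z i) = 0) → IsDiffOpLE A B B B 0 D
  | 0, _, h, _ => h
  | k + 1, D, h, hc => by
    have hb : ∀ b, IsDiffOpLE A B B B 0 (commutator A B B B D b) := fun b => by
      refine linear_of_commute hz k _ (h b) fun i => ?_
      have e : commutator A B B B (commutator A B B B D b) (z i)
          = commutator A B B B (commutator A B B B D (z i)) b := by
        ext m
        simp [smul_eq_mul, mul_left_comm (z i) b]
        ring
      rw [e, hc i, comm_zero]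
    have happ : ∀ b x, commutator A B B B D b x = x * commutator A B B B D b 1 := fun b x => by
      simpa [smul_eq_mul] using hb b x 1
    let δ : Derivation A B B :=
      Derivation.mk'
        { toFun := fun b => commutator A B B B D b 1
          map_add' := fun x y => by simp [smul_eq_mul, add_mul]; ring
          map_smul' := fun a x => by simp [smul_eq_mul, smul_sub] }
        fun x y => by
          show commutator A B B B D (x * y) 1 = _ • commutator A B B B D y 1 + _ • commutator A B B B D x 1
          have h1 := happ x y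
          simp only [commutator_apply, smul_eq_mul, mul_one] at h1 ⊢
          linear_combination h1
    have hl : δ.liftKaehlerDifferential = 0 := by
      refine LinearMap.ext_on_range hz fun i => ?_
      rw [Derivation.liftKaehlerDifferential_comp_D, LinearMap.zero_apply]
      show commutator A B B B D (z i) 1 = 0
      rw [hc i, LinearMap.zero_apply]
    refine (le_zero_iff D).2 fun b => LinearMap.ext fun x => ?_
    rw [happ, LinearMap.zero_apply,
      show commutator A B B B D b 1 = δ b from rfl,
      ← Derivation.liftKaehlerDifferential_comp_D δ b, hl, LinearMap.zero_apply, mul_zero]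

theorem eq_zero_of_monomials (hz : Submodule.span B (Set.range fun i => KaehlerDifferential.D A B (z i)) = ⊤) :
    ∀ (k : ℕ) (D : B →ₗ[A] B), IsDiffOpLE A B B B k D →
      (∀ q : Fin n → ℕ, ∑ i, q i ≤ k → D (∏ i, z i ^ q i) = 0) → D = 0 := by
  have key : ∀ D : B →ₗ[A] B, IsDiffOpLE A B B B 0 D → D 1 = 0 → D = 0 := fun D h h1 => by
    ext x
    simpa [h1] using h x 1
  intro k
  induction k with
  | zero => exact fun D h hq => key D h (by simpa using hq 0 (by simp))
  | succ k ih =>
    intro D h hq
    refine key D (linear_of_commute hz (k + 1) D h fun i => ih _ (h (z i)) fun q hsum => ?_)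
      (by simpa using hq 0 (by simp))
    have hs : ∑ j, Function.update q i (q i + 1) j = ∑ j, q j + 1 := by
      rw [Finset.sum_update_of_mem (Finset.mem_univ i), Finset.sdiff_singleton_eq_erase,
        ← Finset.add_sum_erase _ q (Finset.mem_univ i)]
      omega
    have hp : ∏ j, z j ^ Function.update q i (q i + 1) j = z i * ∏ j, z j ^ q j := by
      rw [← Finset.mul_prod_erase _ (fun j => z j ^ q j) (Finset.mem_univ i),
        ← Finset.mul_prod_erase _ (fun j => z j ^ Function.update q i (q i + 1) j) (Finset.mem_univ i),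
        ← mul_assoc, Function.update_self, pow_succ']
      congr 1
      exact Finset.prod_congr rfl fun j hj => by
        rw [Function.update_of_ne (Finset.ne_of_mem_erase hj)]
    have h2 := hq (Function.update q i (q i + 1)) (by omega)
    rw [commutator_apply, smul_eq_mul, ← hp, h2, hq q (by omega)]
    simp

theorem formallyEtale_aeval [Algebra.FormallySmooth A B]
    (b : Module.Basis (Fin n) B (KaehlerDifferential A B))
    (hb : ∀ i, b i = KaehlerDifferential.D A B (z i)) :
    letI := (MvPolynomial.aeval z : MvPolynomial (Fin n) A →ₐ[A] B).toRingHom.toAlgebra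
    Algebra.FormallyEtale (MvPolynomial (Fin n) A) B := by
  letI := (MvPolynomial.aeval z : MvPolynomial (Fin n) A →ₐ[A] B).toRingHom.toAlgebra
  haveI : IsScalarTower A (MvPolynomial (Fin n) A) B :=
    IsScalarTower.of_algebraMap_eq fun a => (MvPolynomial.aeval_C z a).symm
  set e := (KaehlerDifferential.mvPolynomialBasis A (Fin n)).baseChange B with he
  have hf : KaehlerDifferential.mapBaseChange A (MvPolynomial (Fin n) A) B
      = (e.equiv b (Equiv.refl _)).toLinearMap := by
    refine e.ext fun i => ?_
    rw [LinearEquiv.coe_coe, Module.Basis.equiv_apply, Equiv.refl_apply, hb, he,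
      Module.Basis.baseChange_apply, KaehlerDifferential.mvPolynomialBasis_apply,
      KaehlerDifferential.mapBaseChange_tmul, one_smul, KaehlerDifferential.map_D]
    exact congrArg _ (MvPolynomial.aeval_X z i)
  have hbij : Function.Bijective (KaehlerDifferential.mapBaseChange A (MvPolynomial (Fin n) A) B) := by
    rw [hf]; exact (e.equiv b (Equiv.refl _)).bijective
  refine ⟨?_, ?_⟩
  · refine subsingleton_of_forall_eq 0 fun x => ?_
    obtain ⟨y, rfl⟩ := KaehlerDifferential.map_surjective A (MvPolynomial (Fin n) A) B x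
    exact (KaehlerDifferential.exact_mapBaseChange_map A (MvPolynomial (Fin n) A) B y).2 (hbij.2 y)
  · refine subsingleton_of_forall_eq 0 fun x => ?_
    have h0 : Algebra.H1Cotangent.δ A (MvPolynomial (Fin n) A) B x = 0 := by
      apply hbij.1
      rw [map_zero]
      exact (Algebra.H1Cotangent.exact_δ_mapBaseChange A (MvPolynomial (Fin n) A) B _).2 ⟨x, rfl⟩
    obtain ⟨y, rfl⟩ := (Algebra.H1Cotangent.exact_map_δ A (MvPolynomial (Fin n) A) B x).1 h0
    rw [Subsingleton.elim y 0, map_zero]

/-- A linear functional composed with an infinitesimal deformation of the identity is a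
differential operator. -/
theorem diffOp_functional {C : Type u} [CommRing C] [Algebra A C] [Algebra B C] [IsScalarTower A B C]
    (J : Ideal C) (ψ : B →ₐ[A] C) (hψ : ∀ b, ψ b - algebraMap B C b ∈ J) :
    ∀ (k : ℕ) (l : C →ₗ[B] B), (∀ x ∈ J ^ (k + 1), l x = 0) →
      IsDiffOpLE A B B B k ((l.restrictScalars A) ∘ₗ ψ.toLinearMap) := by
  have e : ∀ (l : C →ₗ[B] B) (b : B),
      commutator A B B B ((l.restrictScalars A) ∘ₗ ψ.toLinearMap) b
        = ((l ∘ₗ LinearMap.mulLeft B (ψ b - algebraMap B C b)).restrictScalars A) ∘ₗ ψ.toLinearMap := by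
    intro l b
    ext x
    simp only [commutator_apply, LinearMap.comp_apply, LinearMap.restrictScalars_apply,
      AlgHom.toLinearMap_apply, LinearMap.mulLeft_apply, smul_eq_mul, map_mul, sub_mul, map_sub]
    rw [← Algebra.smul_def, map_smul, smul_eq_mul]
  intro k
  induction k with
  | zero =>
    refine fun l hl => (le_zero_iff _).2 fun b => ?_
    rw [e]
    ext x
    exact hl _ (by rw [zero_add, pow_one]; exact J.mul_mem_right _ (hψ b))
  | succ k ih =>
    intro l hl b
    rw [e]
    exact ih _ fun x hx => hl _ (by rw [pow_succ' _ (k + 1)]; exact Ideal.mul_mem_mul (hψ b) hx)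

open MvPolynomial in
theorem coeff_prod_add_X (z : Fin n → B) (p q : Fin n → ℕ) :
    coeff (Finsupp.equivFunOnFinite.symm p) (∏ i, (X i + C (z i)) ^ q i)
      = ((∏ i, Nat.choose (q i) (p i) : ℕ) : B) * ∏ i, z i ^ (q i - p i) := by
  classical
  have hmon : ∀ (r : Fin n → ℕ) (c : Fin n → B),
      ∏ i, monomial (Finsupp.single i (r i)) (c i)
        = monomial (Finsupp.equivFunOnFinite.symm r) (∏ i, c i) := by
    intro r c
    suffices ∀ s : Finset (Fin n), ∏ i ∈ s, monomial (Finsupp.single i (r i)) (c i)
        = monomial (∑ i ∈ s, Finsupp.single i (r i)) (∏ i ∈ s, c i) by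
      rw [this Finset.univ]
      congr
      ext j
      simp [Finsupp.single_apply]
    intro s
    induction s using Finset.induction with
    | empty => simp
    | insert a s ha ih => rw [Finset.prod_insert ha, ih, monomial_mul, Finset.sum_insert ha, Finset.prod_insert ha]
  have hx : ∀ i, (X i + C (z i)) ^ q i = ∑ j ∈ Finset.range (q i + 1),
      monomial (Finsupp.single i j) ((Nat.choose (q i) j : B) * z i ^ (q i - j)) := fun i => by
    rw [add_pow]
    refine Finset.sum_congr rfl fun j _ => ?_
    rw [← C_mul_X_pow_eq_monomial, C_mul, C_pow, map_natCast]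
    ring
  rw [Finset.prod_congr rfl fun i _ => hx i, Finset.prod_univ_sum]
  simp only [hmon, coeff_sum, coeff_monomial]
  rw [Finset.sum_ite]
  simp only [Finset.sum_const_zero, add_zero, Equiv.apply_eq_iff_eq]
  by_cases hp : ∀ i, p i ≤ q i
  · rw [Finset.filter_eq', if_pos (by simpa [Fintype.mem_piFinset, Nat.lt_succ_iff] using hp),
      Finset.sum_singleton, Finset.prod_mul_distrib, Nat.cast_prod]
  · rw [Finset.filter_eq', if_neg (by simpa [Fintype.mem_piFinset, Nat.lt_succ_iff] using hp),
      Finset.sum_empty]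
    obtain ⟨i, hi⟩ := not_forall.1 hp
    rw [Finset.prod_eq_zero (Finset.mem_univ i) (Nat.choose_eq_zero_of_lt (not_le.1 hi)),
      Nat.cast_zero, zero_mul]

/-- Infinitesimal sections are determined by prescribing lifts of the coordinates. -/
theorem exists_lift [Algebra.FormallySmooth A B]
    (b : Module.Basis (Fin n) B (KaehlerDifferential A B))
    (hb : ∀ i, b i = KaehlerDifferential.D A B (z i))
    {C : Type u} [CommRing C] [Algebra A C] (g : C →ₐ[A] B) (hg : Function.Surjective g)
    (hnil : IsNilpotent (RingHom.ker (g : C →+* B))) (w : Fin n → C) (hw : ∀ i, g (w i) = z i) :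
    ∃ ψ : B →ₐ[A] C, (∀ x, g (ψ x) = x) ∧ ∀ i, ψ (z i) = w i := by
  letI := (MvPolynomial.aeval z : MvPolynomial (Fin n) A →ₐ[A] B).toRingHom.toAlgebra
  haveI : IsScalarTower A (MvPolynomial (Fin n) A) B :=
    IsScalarTower.of_algebraMap_eq fun a => (MvPolynomial.aeval_C z a).symm
  haveI : Algebra.FormallyEtale (MvPolynomial (Fin n) A) B := formallyEtale_aeval b hb
  letI := (MvPolynomial.aeval w : MvPolynomial (Fin n) A →ₐ[A] C).toRingHom.toAlgebra
  haveI : IsScalarTower A (MvPolynomial (Fin n) A) C :=
    IsScalarTower.of_algebraMap_eq fun a => (MvPolynomial.aeval_C w a).symm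
  let ε : C →ₐ[MvPolynomial (Fin n) A] B :=
    { g.toRingHom with
      commutes' := fun x => by
        have h : g.comp (MvPolynomial.aeval w) = MvPolynomial.aeval z :=
          MvPolynomial.algHom_ext fun i => by simp [hw]
        exact DFunLike.congr_fun h x }
  let φ : B →ₐ[MvPolynomial (Fin n) A] C :=
    Algebra.FormallySmooth.liftOfSurjective (AlgHom.id _ B) ε hg hnil
  refine ⟨φ.restrictScalars A,
    fun x => Algebra.FormallySmooth.liftOfSurjective_apply (AlgHom.id _ B) ε hg hnil x, fun i => ?_⟩
  have := φ.commutes (MvPolynomial.X i)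
  rw [show algebraMap (MvPolynomial (Fin n) A) B (MvPolynomial.X i) = z i from MvPolynomial.aeval_X z i,
    show algebraMap (MvPolynomial (Fin n) A) C (MvPolynomial.X i) = w i from MvPolynomial.aeval_X w i] at this
  exact this

open MvPolynomial in
theorem exists_family [Algebra.FormallySmooth A B]
    (b : Module.Basis (Fin n) B (KaehlerDifferential A B))
    (hb : ∀ i, b i = KaehlerDifferential.D A B (z i)) (p : Fin n → ℕ) :
    ∃ D : B →ₗ[A] B, IsDiffOpLE A B B B (∑ i, p i) D ∧ ∀ q : Fin n → ℕ,
      D (∏ i, z i ^ q i) = ((∏ i, Nat.choose (q i) (p i) : ℕ) : B) * ∏ i, z i ^ (q i - p i) := by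
  set k := ∑ i, p i with hk
  set J := (idealOfVars (Fin n) B) ^ (k + 1) with hJ
  let mk := Ideal.Quotient.mkₐ A J
  let w : Fin n → MvPolynomial (Fin n) B ⧸ J := fun i => mk (X i + C (z i))
  have hker : ∀ x ∈ J, constantCoeff x = (0 : B) := by
    intro x hx
    exact (mem_pow_idealOfVars_iff' _ x).1 hx 0 (by simp)
  let ε₀ : MvPolynomial (Fin n) B ⧸ J →+* B := Ideal.Quotient.lift J constantCoeff hker
  let ε : MvPolynomial (Fin n) B ⧸ J →ₐ[A] B :=
    { ε₀ with
      commutes' := fun x => by
        show ε₀ (Ideal.Quotient.mk J (algebraMap A (MvPolynomial (Fin n) B) x)) = _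
        simp [ε₀, MvPolynomial.algebraMap_eq, IsScalarTower.algebraMap_apply A B (MvPolynomial (Fin n) B)] }
  have hεs : Function.Surjective ε := fun x => ⟨Ideal.Quotient.mk J (C x), by
    show ε₀ _ = x
    simp [ε₀]⟩
  have hK : ∀ x : MvPolynomial (Fin n) B ⧸ J, ε₀ x = 0 →
      x ∈ (idealOfVars (Fin n) B).map (Ideal.Quotient.mk J) := by
    intro x hx
    obtain ⟨x, rfl⟩ := Ideal.Quotient.mk_surjective x
    refine Ideal.mem_map_of_mem _ ?_
    rw [← pow_one (idealOfVars (Fin n) B), mem_pow_idealOfVars_iff']
    intro d hd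
    rw [(Finsupp.degree_eq_zero_iff d).1 (by omega)]
    simpa [ε₀, constantCoeff_eq] using hx
  have hnil : IsNilpotent (RingHom.ker (ε : MvPolynomial (Fin n) B ⧸ J →+* B)) := by
    refine ⟨k + 1, ?_⟩
    rw [Ideal.zero_eq_bot, eq_bot_iff]
    refine (Ideal.pow_right_mono (fun x hx => hK x hx) _).trans ?_
    rw [← Ideal.map_pow, ← hJ, Ideal.map_quotient_self]
  obtain ⟨ψ, hφ, hψz⟩ := exists_lift b hb ε hεs hnil w fun i => by
    show ε₀ _ = _
    simp [ε₀, w, mk]
  let d := Finsupp.equivFunOnFinite.symm p
  have hd : Finsupp.degree d = k := by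
    rw [Finsupp.degree_eq_sum, hk]; rfl
  let l : (MvPolynomial (Fin n) B ⧸ J) →ₗ[B] B :=
    (Submodule.liftQ (J.restrictScalars B) (lcoeff B d) (fun x hx => by
      rw [LinearMap.mem_ker, lcoeff_apply]
      exact (mem_pow_idealOfVars_iff' _ x).1 hx d (by omega))) ∘ₗ
      (Submodule.Quotient.restrictScalarsEquiv B J).symm.toLinearMap
  have hl : ∀ x, l (Ideal.Quotient.mk J x) = coeff d x := fun x => rfl
  refine ⟨(l.restrictScalars A) ∘ₗ ψ.toLinearMap, ?_, fun q => ?_⟩
  · refine diffOp_functional ((idealOfVars (Fin n) B).map (Ideal.Quotient.mk J)) ψ (fun x => ?_) _ l ?_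
    · refine hK _ ?_
      rw [map_sub, show ε₀ (ψ x) = x from hφ x]
      show x - ε₀ (Ideal.Quotient.mk J (C x)) = 0
      simp [ε₀]
    · intro x hx
      rw [← Ideal.map_pow, ← hJ, Ideal.map_quotient_self, Ideal.mem_bot] at hx
      rw [hx, map_zero]
  · show l (ψ (∏ i, z i ^ q i)) = _
    rw [map_prod, Finset.prod_congr rfl fun i _ => by rw [map_pow, hψz i],
      show ∏ i, w i ^ q i = Ideal.Quotient.mk J (∏ i, (X i + C (z i)) ^ q i) by
        simp [w, mk, map_prod], hl, coeff_prod_add_X]

end Groth.Agent.DiffOp
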